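import Groth.Agent.Lib.PullBC11.Crit
import Mathlib.RingTheory.Flat.Basic
import Mathlib.RingTheory.Flat.Stability

/-!
A morphism out of an inverse image is mono when it is injective on sections of small affine opens.
-/

set_option autoImplicit false
set_option linter.style.haveILetI false

universe u

open CategoryTheory Limits AlgebraicGeometry TopologicalSpace Opposite TensorProduct

namespace Groth.Agent.OmegaMono13

section alg

variable {A B Ax By : Type u} [CommRing A] [CommRing B] [CommRing Ax] [CommRing By]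
  [Algebra A B] [Algebra A Ax] [Algebra B By] [Algebra Ax By] [Algebra A By]
  [IsScalarTower A B By] [IsScalarTower A Ax By] [Module.Flat B By]
  {MU NV Mx Ny : Type u} [AddCommGroup MU] [AddCommGroup NV] [AddCommGroup Mx] [AddCommGroup Ny]
  [Module A MU] [Module B NV] [Module A NV] [IsScalarTower A B NV]
  [Module Ax Mx] [Module A Mx] [IsScalarTower A Ax Mx]
  [Module By Ny] [Module B Ny] [Module A Ny] [IsScalarTower B By Ny] [IsScalarTower A By Ny]
  [IsScalarTower A B Ny]

theorem injective_of_injective {η : MU →ₗ[A] NV} (hη : Function.Injective (η.liftBaseChange B)) {a : MU →ₗ[A] Mx}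
    (ha : IsBaseChange Ax a) {b : NV →ₗ[B] Ny} (hb : IsBaseChange By b) (Φ : By ⊗[Ax] Mx →ₗ[By] Ny)
    (hΦ : ∀ m, Φ (1 ⊗ₜ a m) = b (η m)) : Function.Injective Φ := by
  have d := ha.comp (TensorProduct.isBaseChange Ax Mx By)
  let e := (AlgebraTensorModule.cancelBaseChange A B By By MU).trans d.equiv
  let G : By ⊗[B] (B ⊗[A] MU) →ₗ[By] Ny :=
    hb.equiv.toLinearMap ∘ₗ (AlgebraTensorModule.lTensor By By (η.liftBaseChange B))
  have h1 : Φ ∘ₗ e.toLinearMap = G := by
    refine LinearMap.ext fun z => ?_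
    induction z using TensorProduct.induction_on with
    | zero => simp
    | add z w hz hw => simp only [map_add, hz, hw]
    | tmul c w =>
      induction w using TensorProduct.induction_on with
      | zero => simp
      | add z w hz hw => simp only [tmul_add, map_add, hz, hw]
      | tmul r m =>
        simp only [e, G, LinearMap.comp_apply, LinearEquiv.coe_coe, LinearEquiv.trans_apply,
          AlgebraTensorModule.cancelBaseChange_tmul, AlgebraTensorModule.lTensor_tmul,
          LinearMap.liftBaseChange_tmul, IsBaseChange.equiv_tmul, LinearMap.map_smul]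
        show (r • c) • Φ (1 ⊗ₜ a m) = c • r • b (η m)
        rw [hΦ, smul_assoc, smul_comm]
  have h2 : Function.Injective G :=
    hb.equiv.injective.comp (Module.Flat.lTensor_preserves_injective_linearMap _ hη)
  intro x y hxy
  obtain ⟨x, rfl⟩ := e.surjective x
  obtain ⟨y, rfl⟩ := e.surjective y
  exact congrArg e (h2 ((congr($h1 x)).symm.trans (hxy.trans congr($h1 y))))

end alg

open PullBC11

variable {X Y : Scheme.{u}} {g : Y ⟶ X} {M : X.Modules} {N : Y.Modules}
  (θ : M ⟶ (Scheme.Modules.pushforward g).obj N)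

/-- Injectivity on the sections over `V` of the base change of those over `U`. -/
def IsInj {U : X.Opens} {V : Y.Opens} (hle : V ≤ g ⁻¹ᵁ U) : Prop :=
  letI := (g.appLE U V hle).hom.toAlgebra
  letI := baseModule (g := g) N hle
  haveI : IsScalarTower Γ(X, U) Γ(Y, V) Γ(N, V) := IsScalarTower.of_algebraMap_smul fun _ _ => rfl
  Function.Injective ((sect θ hle).liftBaseChange Γ(Y, V))

theorem mono_of_isInj (hM : Coh.IsQCoh M) (hN : Coh.IsQCoh N)
    (h : ∀ y : Y, ∃ (U : X.Opens) (_ : IsAffineOpen U) (V : Y.Opens) (_ : IsAffineOpen V) (hle : V ≤ g ⁻¹ᵁ U),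
      y ∈ V ∧ IsInj θ hle) :
    Mono (((Scheme.Modules.pullbackPushforwardAdjunction g).homEquiv M N).symm θ) := by
  haveI := hM
  haveI := hN
  set ν := ((Scheme.Modules.pullbackPushforwardAdjunction g).homEquiv M N).symm θ with hν
  refine (M1.mono_iff_stalk _).2 fun y => ?_
  obtain ⟨U, hU, V, hV, hle, hy, hinj⟩ := h y
  have hyU : g y ∈ U := hle hy
  letI := (g.appLE U V hle).hom.toAlgebra
  letI := baseModule (g := g) N hle
  haveI : IsScalarTower Γ(X, U) Γ(Y, V) Γ(N, V) := IsScalarTower.of_algebraMap_smul fun _ _ => rfl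
  letI algX : Algebra Γ(X, U) (X.presheaf.stalk (g y)) := (X.presheaf.germ U (g y) hyU).hom.toAlgebra
  letI algY : Algebra Γ(Y, V) (Y.presheaf.stalk y) := (Y.presheaf.germ V y hy).hom.toAlgebra
  letI algD : Algebra Γ(X, U) (Y.presheaf.stalk y) :=
    ((algebraMap Γ(Y, V) (Y.presheaf.stalk y)).comp (algebraMap Γ(X, U) Γ(Y, V))).toAlgebra
  haveI : IsScalarTower Γ(X, U) Γ(Y, V) (Y.presheaf.stalk y) := IsScalarTower.of_algebraMap_eq' rfl
  haveI : IsScalarTower Γ(X, U) (X.presheaf.stalk (g y)) (Y.presheaf.stalk y) :=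
    IsScalarTower.of_algebraMap_eq fun r => by
      show Y.presheaf.germ V y hy (g.appLE U V hle r) = (g.stalkMap y) (X.presheaf.germ U (g y) hyU r)
      rw [Scheme.Hom.germ_stalkMap_apply, Scheme.Hom.appLE, CommRingCat.comp_apply]
      exact TopCat.Presheaf.germ_res_apply Y.presheaf (homOfLE hle) y hy _
  letI mA : Module Γ(X, U) (M.presheaf.stalk (g y) : Type u) := M1.stalkModule M hyU
  haveI : IsScalarTower Γ(X, U) (X.presheaf.stalk (g y)) (M.presheaf.stalk (g y) : Type u) :=
    IsScalarTower.of_algebraMap_smul fun _ _ => rfl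
  letI mB : Module Γ(Y, V) (N.presheaf.stalk y : Type u) := M1.stalkModule N hy
  haveI : IsScalarTower Γ(Y, V) (Y.presheaf.stalk y) (N.presheaf.stalk y : Type u) :=
    IsScalarTower.of_algebraMap_smul fun _ _ => rfl
  letI mD : Module Γ(X, U) (N.presheaf.stalk y : Type u) := Module.compHom _ (algebraMap Γ(X, U) Γ(Y, V))
  haveI : IsScalarTower Γ(X, U) Γ(Y, V) (N.presheaf.stalk y : Type u) :=
    IsScalarTower.of_algebraMap_smul fun _ _ => rfl
  haveI : IsScalarTower Γ(X, U) (Y.presheaf.stalk y) (N.presheaf.stalk y : Type u) :=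
    IsScalarTower.of_algebraMap_smul fun _ _ => rfl
  haveI := hU.isLocalization_stalk ⟨g y, hyU⟩
  haveI := hV.isLocalization_stalk ⟨y, hy⟩
  haveI : Module.Flat Γ(Y, V) (Y.presheaf.stalk y) :=
    IsLocalization.flat _ (hV.primeIdealOf ⟨y, hy⟩).asIdeal.primeCompl
  haveI ha' := M1.isLocalizedModule_germ M hU hyU
  haveI hb' := M1.isLocalizedModule_germ N hV hy
  have ha := (isLocalizedModule_iff_isBaseChange (hU.primeIdealOf ⟨g y, hyU⟩).asIdeal.primeCompl
    (X.presheaf.stalk (g y)) (M1.germₗ M hyU)).1 ha'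
  have hb := (isLocalizedModule_iff_isBaseChange (hV.primeIdealOf ⟨y, hy⟩).asIdeal.primeCompl
    (Y.presheaf.stalk y) (M1.germₗ N hy)).1 hb'
  let Φ : M2.BC g y M →ₗ[Y.presheaf.stalk y] (N.presheaf.stalk y : Type u) :=
    { toFun := fun z => stk ν y (M2.pullStalkEquiv g y M z)
      map_add' := fun z w => (congrArg (stk ν y) (map_add _ z w)).trans (map_add _ _ _)
      map_smul' := fun c z => by
        refine (congrArg (stk ν y) (map_smul _ c z)).trans ?_
        exact stalk_map_smul ν c _ }
  have hΦ : Function.Injective Φ := injective_of_injective hinj ha hb Φ fun s => by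
    show stk ν y (M2.pullStalkEquiv g y M (1 ⊗ₜ M.presheaf.germ U (g y) hyU s)) =
      N.presheaf.germ V y hy (M1.mres N hle (θ.app U s))
    rw [M2.pullStalkEquiv_tmul g y M hyU, ← homEquiv_symm_pullSec θ s]
    refine (TopCat.Presheaf.stalkFunctor_map_germ_apply (g ⁻¹ᵁ U) y hyU ν.mapPresheaf _).trans ?_
    exact (TopCat.Presheaf.germ_res_apply N.presheaf (homOfLE hle) y hy _).symm
  intro a b hab
  obtain ⟨a, rfl⟩ := (M2.pullStalkEquiv g y M).surjective a
  obtain ⟨b, rfl⟩ := (M2.pullStalkEquiv g y M).surjective b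
  exact congrArg _ (hΦ hab)

end Groth.Agent.OmegaMono13
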